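import Groth.Agent.Lib.GrpdDense19.Nhd
import Groth.Agent.Lib.GrpdProper19.Main

/-!
# Quotients over dense saturated opens
-/

set_option autoImplicit false
set_option linter.style.haveILetI false
set_option linter.unusedSectionVars false
set_option backward.isDefEq.respectTransparency.types false
universe u

open CategoryTheory CategoryTheory.Limits AlgebraicGeometry TopologicalSpace

noncomputable section

namespace Groth.Agent.GrpdDense19

open Groth.Agent.GrpQuot Groth.Agent.GrpdB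

section Chart

variable {S : Scheme.{u}} (G : Grpd.GroupoidScheme S)

/-- A chart with the local properties needed for gluing. -/
def GoodChart (P : Prop) (c : Chart G) : Prop :=
  (∀ g : c.M ⟶ S, c.p ≫ g = c.W.ι ≫ G.pU → LocallyOfFiniteType g) ∧
    (P → Flat c.p ∧ ∀ (T : Scheme.{u}) (x y : T ⟶ c.W.toScheme), x ≫ c.p = y ≫ c.p →
      ∃ r : T ⟶ G.R, r ≫ G.t = x ≫ c.W.ι ∧ r ≫ G.s = y ≫ c.W.ι)

variable (W : G.U.Opens) (hW : G.s ⁻¹ᵁ W = G.t ⁻¹ᵁ W)

theorem isQuot_to_restr {O Y : Scheme.{u}} {k : O ⟶ W.toScheme} {p : O ⟶ Y}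
    (h : IsQuot G (k ≫ W.ι) p) : IsQuot (restr G W hW) k p := by
  have hlift : ∀ {T : Scheme.{u}} (r : T ⟶ G.R) (x y : T ⟶ O), r ≫ G.t = x ≫ k ≫ W.ι → r ≫ G.s = y ≫ k ≫ W.ι →
      ∃ r' : T ⟶ (G.s ⁻¹ᵁ W).toScheme, r' ≫ tO G W hW = x ≫ k ∧ r' ≫ sO G W = y ≫ k := by
    intro T r x y hx hy
    refine ⟨liftR G W r fun z => ?_, ?_, ?_⟩
    · rw [← Scheme.Hom.comp_apply, hy, ← Category.assoc]; exact ((y ≫ k) z).2
    · rw [← cancel_mono W.ι, Category.assoc, tO_ι G W hW, liftR_ι_assoc, hx, Category.assoc]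
    · rw [← cancel_mono W.ι, Category.assoc, sO_ι, liftR_ι_assoc, hy, Category.assoc]
  refine ⟨fun {T} r x y hx hy => ?_, h.surj, h.isOpenMap, fun {K} _ _ x y e => ?_, fun x y e => ?_, ?_⟩
  · exact h.inv (r ≫ (G.s ⁻¹ᵁ W).ι) x y
      ((Category.assoc _ _ _).symm.trans (comp_tO G W hW (r := r) hx.symm).symm)
      ((Category.assoc _ _ _).symm.trans (comp_sO G W (r := r) hy.symm).symm)
  · obtain ⟨r, h1, h2⟩ := h.pts x y e
    exact hlift r x y h1 h2
  · obtain ⟨r, h1, h2⟩ := h.fibres x y e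
    have hr : r ∈ G.s ⁻¹ᵁ W := by
      show G.s r ∈ W
      rw [h2, Scheme.Hom.comp_apply]
      exact (k y).2
    refine ⟨⟨r, hr⟩, Subtype.ext ?_, Subtype.ext ?_⟩
    · show W.ι (tO G W hW ⟨r, hr⟩) = W.ι (k x)
      rw [← Scheme.Hom.comp_apply, tO_ι G W hW, ← Scheme.Hom.comp_apply k, Scheme.Hom.comp_apply]
      exact h1
    · show W.ι (sO G W ⟨r, hr⟩) = W.ι (k y)
      rw [← Scheme.Hom.comp_apply, sO_ι, ← Scheme.Hom.comp_apply k, Scheme.Hom.comp_apply]
      exact h2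
  · intro A O' Z g₀ _ k' q sq ψ hψ
    refine h.desc g₀ k' q sq ψ fun r x y hx hy => ?_
    obtain ⟨r', h1, h2⟩ := hlift r (x ≫ k') (y ≫ k') ((Category.assoc _ _ _).trans hx).symm
      ((Category.assoc _ _ _).trans hy).symm
    exact hψ r' x y ((Category.assoc _ _ _).symm.trans h1.symm) ((Category.assoc _ _ _).symm.trans h2.symm)

/-- A chart inside an invariant open is a chart of the restriction. -/
theorem exists_chart_restr (P : Prop) (c : Chart G) (hc : c.W ≤ W) (hgood : GoodChart G P c) :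
    ∃ c' : Chart (restr G W hW), c'.W = W.ι ⁻¹ᵁ c.W ∧ GoodChart (restr G W hW) P c' := by
  let W' : W.toScheme.Opens := W.ι ⁻¹ᵁ c.W
  let e : W'.toScheme ⟶ c.W.toScheme := W.ι ∣_ c.W
  haveI : IsIso e := by
    haveI : Surjective e := ⟨fun ⟨x, hx⟩ => ⟨⟨⟨x, hc hx⟩, hx⟩, Subtype.ext (morphismRestrict_base_coe _ _ _)⟩⟩
    haveI : IsOpenImmersion e := inferInstance
    exact (isIso_iff_isOpenImmersion_and_epi_base e).2 ⟨inferInstance, (TopCat.epi_iff_surjective _).2 e.surjective⟩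
  have he : e ≫ c.W.ι = W'.ι ≫ W.ι := morphismRestrict_ι _ _
  have hinv : (restr G W hW).s ⁻¹ᵁ W' = (restr G W hW).t ⁻¹ᵁ W' := by
    show sO G W ⁻¹ᵁ (W.ι ⁻¹ᵁ c.W) = tO G W hW ⁻¹ᵁ (W.ι ⁻¹ᵁ c.W)
    rw [← Scheme.Hom.comp_preimage, ← Scheme.Hom.comp_preimage, sO_ι, tO_ι G W hW, Scheme.Hom.comp_preimage,
      Scheme.Hom.comp_preimage, c.inv]
  have hQ : IsQuot G (W'.ι ≫ W.ι) (e ≫ c.p) := by
    have := c.isQuot.restrict (𝟙 c.M) e (e ≫ c.p) (IsPullback.of_vert_isIso ⟨by simp⟩).flip.flip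
    rwa [he] at this
  have hQ' := isQuot_to_restr G W hW hQ
  let c' : Chart (restr G W hW) := ⟨W', hinv, _, _, hQ'⟩
  obtain ⟨d, hd⟩ := hQ'.exists_iso c'.isQuot
  refine ⟨c', rfl, fun g hg => ?_, fun hm => ?_⟩
  · have h1 : LocallyOfFiniteType (d.hom ≫ g) := hgood.1 _ (by
      rw [← cancel_epi e]
      refine Eq.trans ?_ ((reassoc_of% he) G.pU).symm
      refine Eq.trans ?_ hg
      exact ((Category.assoc e c.p _).symm.trans (Category.assoc (e ≫ c.p) d.hom g).symm).trans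
        (congrArg (· ≫ g) hd))
    exact (MorphismProperty.cancel_left_of_respectsIso @LocallyOfFiniteType d.hom g).1 h1
  · obtain ⟨hfl, hpts⟩ := hgood.2 hm
    haveI := hfl
    refine ⟨?_, fun T x₀ y₀ h => ?_⟩
    · haveI : Flat (e ≫ c.p) := inferInstance
      exact hd ▸ (MorphismProperty.comp_mem @Flat (e ≫ c.p) d.hom inferInstance inferInstance)
    · let x : T ⟶ W'.toScheme := x₀
      let y : T ⟶ W'.toScheme := y₀
      have h' : (x ≫ e) ≫ c.p = (y ≫ e) ≫ c.p := by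
        rw [← cancel_mono d.hom]
        calc ((x ≫ e) ≫ c.p) ≫ d.hom = x ≫ (e ≫ c.p) ≫ d.hom := by simp only [Category.assoc]
          _ = x ≫ c'.p := congrArg (x ≫ ·) hd
          _ = y ≫ c'.p := h
          _ = y ≫ (e ≫ c.p) ≫ d.hom := (congrArg (y ≫ ·) hd).symm
          _ = ((y ≫ e) ≫ c.p) ≫ d.hom := by simp only [Category.assoc]
      obtain ⟨r, h1, h2⟩ := hpts T (x ≫ e) (y ≫ e) h'
      have h1' : r ≫ G.t = (x ≫ W'.ι) ≫ W.ι :=
        h1.trans ((Category.assoc _ _ _).trans ((congrArg (x ≫ ·) he).trans (Category.assoc _ _ _).symm))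
      have h2' : r ≫ G.s = (y ≫ W'.ι) ≫ W.ι :=
        h2.trans ((Category.assoc _ _ _).trans ((congrArg (y ≫ ·) he).trans (Category.assoc _ _ _).symm))
      have hr : ∀ z, G.s (r z) ∈ W := fun z => by
        rw [← Scheme.Hom.comp_apply, h2', Scheme.Hom.comp_apply]
        exact ((y ≫ W'.ι) z).2
      exact ⟨liftR G W r hr,
        (cancel_mono W.ι).1 ((Category.assoc _ _ _).trans ((congrArg (_ ≫ ·) (tO_ι G W hW)).trans
          ((liftR_ι_assoc G W r hr G.t).trans h1'))),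
        (cancel_mono W.ι).1 ((Category.assoc _ _ _).trans ((congrArg (_ ≫ ·) (sO_ι G W)).trans
          ((liftR_ι_assoc G W r hr G.s).trans h2')))⟩

theorem isPullback_of_pts {H : Grpd.GroupoidScheme S} [Mono H.j] (c : Chart H)
    (hpts : ∀ (T : Scheme.{u}) (x y : T ⟶ c.W.toScheme), x ≫ c.p = y ≫ c.p →
      ∃ r : T ⟶ H.R, r ≫ H.t = x ≫ c.W.ι ∧ r ≫ H.s = y ≫ c.W.ι) :
    IsPullback (sO H c.W) (tO H c.W c.inv) c.p c.p := by
  have w : sO H c.W ≫ c.p = tO H c.W c.inv ≫ c.p :=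
    (c.isQuot.inv (H.s ⁻¹ᵁ c.W).ι _ _ (tO_ι H c.W c.inv) (sO_ι H c.W)).symm
  have key : ∀ s : PullbackCone c.p c.p, ∃ r : s.pt ⟶ (H.s ⁻¹ᵁ c.W).toScheme,
      r ≫ sO H c.W = s.fst ∧ r ≫ tO H c.W c.inv = s.snd := fun s => by
    obtain ⟨r, h1, h2⟩ := hpts _ s.snd s.fst s.condition.symm
    refine ⟨liftR H c.W r (fun z => by rw [← Scheme.Hom.comp_apply, h2]; exact (s.fst z).2), ?_, ?_⟩
    · rw [← cancel_mono c.W.ι, Category.assoc, sO_ι, liftR_ι_assoc, h2]
    · rw [← cancel_mono c.W.ι, Category.assoc, tO_ι H c.W c.inv, liftR_ι_assoc, h1]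
  exact ⟨⟨w⟩, ⟨PullbackCone.IsLimit.mk _ (fun s => (key s).choose) (fun s => (key s).choose_spec.1)
    (fun s => (key s).choose_spec.2) fun s m h1 h2 => restr_ext c.W c.inv _ _
      (h1.trans (key s).choose_spec.1.symm) (h2.trans (key s).choose_spec.2.symm)⟩⟩

end Chart

section Main

variable {S : Scheme.{u}} [AlgebraicGeometry.IsNoetherian S] (G : Grpd.GroupoidScheme S)
  [Flat G.s] [LocallyOfFiniteType G.s] [QuasiCompact G.s] [LocallyOfFiniteType G.pU] [QuasiCompact G.pU]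
  [LocallyQuasiFinite G.j]

theorem exists_goodChart_generic (ξ : G.U) (hξ : ξ ∈ genericPoints (G.U : Type u)) :
    ∃ c : Chart G, ξ ∈ c.W ∧ GoodChart G (Mono G.j) c := by
  haveI := isNoetherian_U G
  haveI := isNoetherian_R G
  haveI := GrpQuot.flat_t G
  haveI : LocallyOfFiniteType G.t := by
    rw [← G.i_s]
    haveI : IsIso G.i := GrpQuot.isIso_i G
    infer_instance
  obtain ⟨W, hW, hξW, U', u, hu, hfl, hsurj, h2⟩ := exists_quasiSection_generic G ξ hξ
  let H := restr G W hW.symm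
  haveI : IsImmersion (show U' ⟶ H.U from u) := hu
  haveI : IsFinite (GrpdQSec19.q H u) := hfl.1
  haveI : Flat (GrpdQSec19.q H u) := hfl.2.1
  haveI : LocallyOfFinitePresentation (GrpdQSec19.q H u) := hfl.2.2
  haveI : Surjective (GrpdQSec19.q H u) := hsurj
  obtain ⟨Y, p, w, -, -, -, -, -, hmono, hQ, hLFT⟩ := GrpdQSec19.main' H u (fun E hE => h2 E fun a ha b hb => by
    obtain ⟨r, hr1, hr2⟩ := hE a ha b hb
    refine ⟨(G.s ⁻¹ᵁ W).ι r, ?_, ?_⟩
    · rw [← Scheme.Hom.comp_apply, ← tO_ι G W hW.symm, Scheme.Hom.comp_apply, Scheme.Hom.comp_apply]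
      exact congrArg W.ι hr1
    · rw [← Scheme.Hom.comp_apply, ← sO_ι, Scheme.Hom.comp_apply, Scheme.Hom.comp_apply]
      exact congrArg W.ι hr2)
  have htflat : Flat H.t := by
    show Flat (G.t.resLE W (G.s ⁻¹ᵁ W) hW.ge)
    infer_instance
  have hopen : IsOpenMap H.t.base := by
    haveI := htflat
    haveI : LocallyOfFiniteType H.t := by
      show LocallyOfFiniteType (G.t.resLE W (G.s ⁻¹ᵁ W) hW.ge)
      infer_instance
    haveI : IsLocallyNoetherian H.U := inferInstanceAs (IsLocallyNoetherian W.toScheme)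
    haveI : UniversallyOpen H.t := inferInstance
    exact H.t.isOpenMap
  have hslft : LocallyOfFiniteType H.s := by
    show LocallyOfFiniteType (G.s ∣_ W)
    infer_instance
  have hQ' : IsQuot G W.ι p := IsQuot.of_restr G W hW.symm (hQ hslft hopen)
  let c : Chart G := ⟨W, hW.symm, Y, p, hQ'⟩
  obtain ⟨e, he⟩ := hQ'.exists_iso c.isQuot
  refine ⟨c, hξW, fun g hg => ?_, fun hm => ?_⟩
  · have h1 : LocallyOfFiniteType (e.hom ≫ g) := hLFT _ (by
      exact ((Category.assoc _ _ _).symm.trans (congrArg (· ≫ g) he)).trans hg) inferInstance (by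
      show LocallyOfFiniteType (W.ι ≫ G.pU)
      infer_instance)
    exact (MorphismProperty.cancel_left_of_respectsIso @LocallyOfFiniteType e.hom g).1 h1
  · haveI := hm
    haveI : Mono H.j := GrpdProper19.mono_j_restr W hW.symm
    obtain ⟨hpb, hflat⟩ := hmono inferInstance
    haveI := hflat htflat
    refine ⟨he ▸ (MorphismProperty.comp_mem @Flat _ _ (hflat htflat) inferInstance), fun T x₀ y₀ h => ?_⟩
    let x : T ⟶ W.toScheme := x₀
    let y : T ⟶ W.toScheme := y₀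
    have h' : x ≫ p = y ≫ p := (cancel_mono e.hom).1
      ((Category.assoc _ _ _).trans (((congrArg (x ≫ ·) he).trans h).trans
        ((congrArg (y ≫ ·) he).symm.trans (Category.assoc _ _ _).symm)))
    exact ⟨hpb.lift x y h' ≫ (G.s ⁻¹ᵁ W).ι, comp_tO G W hW.symm (hpb.lift_fst x y h'),
      comp_sO G W (hpb.lift_snd x y h')⟩

theorem exists_quotient :
    ∃ (W : G.U.Opens) (hW : G.t ⁻¹ᵁ W = G.s ⁻¹ᵁ W), Dense (W : Set G.U) ∧
      ∃ (V : Scheme.{u}) (p : (W : Scheme.{u}) ⟶ V)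
        (w : G.t.resLE W (G.s ⁻¹ᵁ W) hW.ge ≫ p = (G.s ∣_ W) ≫ p) (q : V ⟶ S),
        Nonempty (IsColimit (Cofork.ofπ p w)) ∧ p ≫ q = W.ι ≫ G.pU ∧
        Surjective p ∧ IsOpenMap p.base ∧ LocallyOfFinitePresentation p ∧
        LocallyOfFinitePresentation q ∧ QuasiCompact q ∧ QuasiSeparated q ∧
        Function.Surjective (pullback.lift (G.t.resLE W (G.s ⁻¹ᵁ W) hW.ge) (G.s ∣_ W) w).base ∧
        (Mono G.j → IsPullback (G.t.resLE W (G.s ⁻¹ᵁ W) hW.ge) (G.s ∣_ W) p p ∧ Flat p) := by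
  haveI := isNoetherian_U G
  choose c₀ hc₀ hgood₀ using fun ξ : {ξ : G.U // ξ ∈ genericPoints (G.U : Type u)} =>
    exists_goodChart_generic G ξ.1 ξ.2
  let W : G.U.Opens := ⨆ ξ, (c₀ ξ).W
  have hW : G.s ⁻¹ᵁ W = G.t ⁻¹ᵁ W := by
    simp only [W, Scheme.Hom.preimage_iSup]
    exact iSup_congr fun ξ => (c₀ ξ).inv
  refine ⟨W, hW.symm, ?_, ?_⟩
  · intro x
    let C := irreducibleComponent x
    have hC : C ∈ irreducibleComponents (G.U : Type u) := irreducibleComponent_mem_irreducibleComponents x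
    have hg : IsGenericPoint hC.1.genericPoint C :=
      hC.1.isGenericPoint_genericPoint (isClosed_of_mem_irreducibleComponents C hC)
    have hgm : hC.1.genericPoint ∈ genericPoints (G.U : Type u) := by
      show closure ({hC.1.genericPoint} : Set G.U) ∈ irreducibleComponents (G.U : Type u)
      rw [hg.def]
      exact hC
    refine closure_mono (Set.singleton_subset_iff.2 ?_) (specializes_iff_mem_closure.1 (IsGenericPoint.specializes hg mem_irreducibleComponent))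
    exact Opens.mem_iSup.2 ⟨⟨_, hgm⟩, hc₀ _⟩
  let H := restr G W hW
  have hch : ∀ x : H.U, ∃ c : Chart H, x ∈ c.W ∧ GoodChart H (Mono G.j) c := fun x => by
    obtain ⟨ξ, hξ⟩ := Opens.mem_iSup.1 x.2
    obtain ⟨c, hcW, hcg⟩ := exists_chart_restr G W hW (Mono G.j) (c₀ ξ) (le_iSup (fun ξ => (c₀ ξ).W) ξ) (hgood₀ ξ)
    exact ⟨c, hcW ▸ hξ, hcg⟩
  have hcov : ∀ x : H.U, ∃ c : Chart H, x ∈ c.W := fun x => (hch x).imp fun _ h => h.1
  let p := toGlued hcov
  have w : H.t ≫ p = H.s ≫ p := t_toGlued hcov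
  obtain ⟨q, hq, -⟩ := exists_desc_glued hcov H.pU (by rw [H.t_over, H.s_over])
  haveI hps : Surjective p := surjective_toGlued hcov
  haveI hqlft : LocallyOfFiniteType q := by
    choose c hc hl _ using hch
    let 𝒱 : (Quot H).OpenCover := Scheme.Cover.mkOfCovers H.U (fun x => (c x).M) (fun x => (c x).ι) (fun y => by
      obtain ⟨x, rfl⟩ := (surjective_toGlued hcov).surj y
      exact ⟨x, (c x).p ⟨x, hc x⟩, (toGlued_apply hcov (c x) ⟨x, hc x⟩).symm⟩) (fun _ => inferInstance)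
    refine IsZariskiLocalAtSource.of_openCover (P := @LocallyOfFiniteType) 𝒱 fun x => hl x _ ?_
    show (c x).p ≫ (c x).ι ≫ q = _
    rw [← Category.assoc, ← ι_toGlued hcov, Category.assoc]
    exact congrArg ((c x).W.ι ≫ ·) hq
  haveI : IsLocallyNoetherian (Quot H) := LocallyOfFiniteType.isLocallyNoetherian q
  haveI : LocallyOfFiniteType H.pU := by
    show LocallyOfFiniteType (W.ι ≫ G.pU)
    infer_instance
  haveI : AlgebraicGeometry.IsNoetherian H.U :=
    { toCompactSpace := isCompact_iff_compactSpace.1 (TopologicalSpace.NoetherianSpace.isCompact (W : Set G.U))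
      toIsLocallyNoetherian := inferInstanceAs (IsLocallyNoetherian W.toScheme) }
  haveI hqqc : QuasiCompact q := by
    refine ⟨fun V hV hVc => ?_⟩
    have := (TopologicalSpace.NoetherianSpace.isCompact (p ⁻¹' (q ⁻¹' V))).image p.continuous
    rwa [Set.image_preimage_eq _ hps.surj] at this
  haveI : LocallyOfFiniteType p := by
    haveI : LocallyOfFiniteType (p ≫ q) := by rw [hq]; infer_instance
    exact locallyOfFiniteType_of_comp p q
  have hpfp : LocallyOfFinitePresentation p := LocallyOfFinitePresentation.iff_locallyOfFiniteType.2 ‹_›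
  refine ⟨Quot H, p, w, q, ⟨Cofork.IsColimit.ofExistsUnique fun s => ?_⟩, hq, hps, isOpenMap_toGlued hcov,
    hpfp, inferInstance, hqqc, inferInstance, surjective_lift_glued hcov, fun hm => ?_⟩
  · exact exists_desc_glued hcov s.π s.condition
  · haveI := hm
    haveI : Mono H.j := GrpdProper19.mono_j_restr W hW
    exact ⟨GrpdProper19.isPullback_of_charts hcov fun x => by
        obtain ⟨c, hc, -, hg⟩ := hch x
        exact ⟨c, hc, isPullback_of_pts c (hg hm).2⟩,
      GrpdProper19.toGlued_of_charts hcov @Flat fun x =>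
        let ⟨c, hc, _, hg⟩ := hch x
        ⟨c, hc, (hg hm).1⟩⟩

end Main

end Groth.Agent.GrpdDense19
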