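import Groth.Agent.Lib.GrpdQSecEx19.Arrows
import Groth.Agent.Lib.GrpdSlice19.Sym
import Groth.Agent.Lib.GrpdQSecEx19.Exists
import Groth.Agent.Lib.FiniteNhd12.Basic
import Groth.Agent.Lib.FpqcDesc.Basic
import Groth.Agent.Lib.ProjSpace.Basic
import Mathlib.Topology.Sober
import Mathlib.AlgebraicGeometry.Morphisms.UniversallyOpen

/-!
# Pieces for quotients over dense opens
-/

set_option autoImplicit false
set_option linter.style.haveILetI false
set_option backward.isDefEq.respectTransparency.types false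
universe u

open CategoryTheory CategoryTheory.Limits AlgebraicGeometry TopologicalSpace

noncomputable section

namespace Groth.Agent.GrpdDense19

open Groth.Agent.GrpdB Groth.Agent.GrpdQSec19

theorem quasiCompact_of_noetherian {X Y : Scheme.{u}} [AlgebraicGeometry.IsNoetherian X] (f : X ⟶ Y) :
    QuasiCompact f := ⟨fun _ _ _ => TopologicalSpace.NoetherianSpace.isCompact _⟩

/-- An affine scheme immerses in a projective space over some ring. -/
theorem exists_immersion_of_isAffine (X : Scheme.{u}) [IsAffine X] :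
    ∃ (R : CommRingCat.{u}) (j : X ⟶ CohB1.ProjSpace 0 R), IsImmersion j := by
  haveI : IsEmpty {j : Fin (0 + 1) // j ≠ 0} := ⟨fun a => a.2 (Subsingleton.elim (α := Fin 1) _ _)⟩
  let e := (MvPolynomial.isEmptyRingEquiv Γ(X, ⊤) {j : Fin (0 + 1) // j ≠ 0}).toCommRingCatIso
  haveI : IsIso (Spec.map e.hom) := inferInstance
  haveI : IsOpenImmersion (ProjSpace.chart 0 Γ(X, ⊤) 0) := ProjSpace.isOpenImmersion_chartP 0 Γ(X, ⊤) 0
  exact ⟨Γ(X, ⊤), X.isoSpec.hom ≫ Spec.map e.hom ≫ ProjSpace.chart 0 Γ(X, ⊤) 0, inferInstance⟩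

theorem eq_of_specializes_generic {X : Scheme.{u}} {ξ x : X} (hξ : ξ ∈ genericPoints (X : Type u)) (h : x ⤳ ξ) :
    x = ξ := by
  have h1 : closure ({ξ} : Set X) ⊆ closure {x} :=
    closure_minimal (Set.singleton_subset_iff.2 (specializes_iff_mem_closure.1 h)) isClosed_closure
  have h2 : closure ({x} : Set X) ⊆ closure {ξ} :=
    hξ.le_of_ge (isIrreducible_singleton.closure) h1
  exact ((inseparable_iff_closure_eq).2 (subset_antisymm h2 h1)).eq

theorem mem_genericPoints_of_forall {X : Scheme.{u}} {x : X} (h : ∀ x', x' ⤳ x → x' = x) :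
    x ∈ genericPoints (X : Type u) := by
  obtain ⟨C, hC, hxC⟩ : ∃ C ∈ irreducibleComponents (X : Type u), x ∈ C :=
    ⟨irreducibleComponent x, irreducibleComponent_mem_irreducibleComponents x, mem_irreducibleComponent⟩
  have hs : IsGenericPoint hC.1.genericPoint C := hC.1.isGenericPoint_genericPoint (isClosed_of_mem_irreducibleComponents C hC)
  obtain rfl := h _ (IsGenericPoint.specializes hs hxC)
  show closure ({hC.1.genericPoint} : Set (X : Type u)) ∈ irreducibleComponents (X : Type u)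
  rw [hs.def]
  exact hC

/-- A generic point has an open neighbourhood all of whose points it generalises. -/
theorem exists_open_generic {X : Scheme.{u}} [NoetherianSpace X] {ξ : X} (hξ : ξ ∈ genericPoints (X : Type u)) :
    ∃ O : X.Opens, ξ ∈ O ∧ ∀ x ∈ O, ξ ⤳ x := by
  let C : Set (Set X) := irreducibleComponents (X : Type u) \ {closure {ξ}}
  have hcl : IsClosed (⋃₀ C) := by
    rw [Set.sUnion_eq_biUnion]
    exact (NoetherianSpace.finite_irreducibleComponents.subset Set.sdiff_subset).isClosed_biUnion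
      fun c hc => isClosed_of_mem_irreducibleComponents c hc.1
  refine ⟨⟨(⋃₀ C)ᶜ, hcl.isOpen_compl⟩, ?_, fun x hx => ?_⟩
  · rintro ⟨c, ⟨hc, hne⟩, hξc⟩
    have h1 : closure ({ξ} : Set X) ⊆ c :=
      closure_minimal (Set.singleton_subset_iff.2 hξc) (isClosed_of_mem_irreducibleComponents c hc)
    exact hne (subset_antisymm (hξ.le_of_ge hc.1 h1) h1)
  · by_contra hn
    refine hx ⟨irreducibleComponent x, ⟨irreducibleComponent_mem_irreducibleComponents x, fun he => hn ?_⟩,
      mem_irreducibleComponent⟩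
    exact specializes_iff_mem_closure.2
      ((Set.mem_singleton_iff.1 he) ▸ (mem_irreducibleComponent (x := x)))

variable {S : Scheme.{u}} (G : Grpd.GroupoidScheme S) {U' : Scheme.{u}} (u : U' ⟶ G.U)

/-- The image of `q` is invariant. -/
theorem range_q_invariant (r : G.R) : G.t r ∈ Set.range (q G u) ↔ G.s r ∈ Set.range (q G u) := by
  obtain ⟨e, he⟩ := GrpdQSecEx19.exists_translate G u
  have key : ∀ {A : Scheme.{u}} (b : A ⟶ G.U) (a : A),
      b a ∈ Set.range (q G u) ↔ a ∈ Set.range (pullback.snd (q G u) b) := by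
    intro A b a
    rw [Scheme.Pullback.range_snd]
    rfl
  rw [key G.t, key G.s, ← he, Scheme.Hom.comp_base, TopCat.coe_comp, Set.range_comp,
    (Scheme.Hom.surjective e.hom).range_eq, Set.image_univ]

theorem isFinite_restrict_iff {X Y A : Scheme.{u}} (f : X ⟶ Y) (b : A ⟶ Y) (B : A.Opens) :
    IsFinite ((pullback.snd f b) ∣_ B) ↔ IsFinite (pullback.snd f (B.ι ≫ b)) := by
  have sq : IsPullback ((pullback.snd f b ⁻¹ᵁ B).ι ≫ pullback.fst f b) ((pullback.snd f b) ∣_ B) f (B.ι ≫ b) :=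
    (isPullback_morphismRestrict _ B).flip.paste_horiz (IsPullback.of_hasPullback f b)
  rw [← sq.isoPullback_hom_snd]
  exact MorphismProperty.cancel_left_of_respectsIso (P := @IsFinite) _ _

theorem isFinite_snd_of_restrict {X Y A : Scheme.{u}} (f : X ⟶ Y) (B : Y.Opens) [IsFinite (f ∣_ B)]
    (b : A ⟶ Y) (hb : ∀ a, b a ∈ B) : IsFinite (pullback.snd f b) := by
  let b' : A ⟶ B := IsOpenImmersion.lift B.ι b (by rintro _ ⟨a, rfl⟩; rw [Scheme.Opens.range_ι]; exact hb a)
  have hb' : b' ≫ B.ι = b := IsOpenImmersion.lift_fac _ _ _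
  have sq : IsPullback (pullback.fst (f ∣_ B) b' ≫ (f ⁻¹ᵁ B).ι) (pullback.snd (f ∣_ B) b') f (b' ≫ B.ι) :=
    (IsPullback.of_hasPullback (f ∣_ B) b').paste_horiz (isPullback_morphismRestrict f B).flip
  rw [hb'] at sq
  rw [← sq.isoPullback_inv_snd]
  exact (MorphismProperty.cancel_left_of_respectsIso (P := @IsFinite) _ _).2 inferInstance

/-- If `q` is finite over a neighbourhood of the source of an arrow, it is so over one of the target. -/
theorem exists_finite_nhd_translate [Flat G.t] [LocallyOfFiniteType G.t] [LocallyOfFinitePresentation G.t]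
    [AlgebraicGeometry.IsNoetherian G.R] (B : G.U.Opens) [IsFinite (q G u ∣_ B)]
    (r : G.R) (hr : G.s r ∈ B) : ∃ B' : G.U.Opens, G.t r ∈ B' ∧ IsFinite (q G u ∣_ B') := by
  obtain ⟨e, he⟩ := GrpdQSecEx19.exists_translate G u
  let RB : G.R.Opens := G.s ⁻¹ᵁ B
  haveI h1 : IsFinite (pullback.snd (q G u) (RB.ι ≫ G.s)) :=
    isFinite_snd_of_restrict (q G u) B _ fun a => a.2
  haveI h2 : IsFinite (pullback.snd (q G u) (RB.ι ≫ G.t)) := by
    rw [← isFinite_restrict_iff] at h1 ⊢
    haveI := h1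
    rw [← he, morphismRestrict_comp]
    have hi := IsZariskiLocalAtTarget.restrict (P := MorphismProperty.isomorphisms Scheme.{u})
      (MorphismProperty.isomorphisms.infer_property e.hom) (pullback.snd (q G u) G.s ⁻¹ᵁ RB)
    haveI : IsFinite (e.hom ∣_ (pullback.snd (q G u) G.s ⁻¹ᵁ RB)) := IsZariskiLocalAtTarget.restrict (P := @IsFinite) (inferInstanceAs (IsFinite e.hom)) _
    exact MorphismProperty.comp_mem @IsFinite _ _ this h1
  let B' : G.U.Opens := ⟨G.t '' (RB : Set G.R), G.t.isOpenMap _ RB.isOpen⟩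
  refine ⟨B', ⟨r, hr, rfl⟩, ?_⟩
  have hle : RB ≤ G.t ⁻¹ᵁ B' := fun x hx => ⟨x, hx, rfl⟩
  let c : (RB : Scheme.{u}) ⟶ B' := G.t.resLE B' RB hle
  haveI : Surjective c := ⟨fun ⟨y, a, ha, hy⟩ => ⟨⟨a, ha⟩, Subtype.ext (by
    show B'.ι (c ⟨a, ha⟩) = y
    rw [← Scheme.Hom.comp_apply, Scheme.Hom.resLE_comp_ι, Scheme.Hom.comp_apply]
    exact hy)⟩⟩
  haveI : Flat c := inferInstance
  haveI : AlgebraicGeometry.IsNoetherian (RB : Scheme.{u}) :=
    { toCompactSpace := isCompact_iff_compactSpace.1 (TopologicalSpace.NoetherianSpace.isCompact (RB : Set G.R))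
      toIsLocallyNoetherian := inferInstance }
  haveI : QuasiCompact c := quasiCompact_of_noetherian c
  have sq : IsPullback (pullback.snd (q G u ∣_ B') c) (pullback.fst (q G u ∣_ B') c) c (q G u ∣_ B') :=
    (IsPullback.of_hasPullback _ _).flip
  haveI := FpqcDesc.descendsAlong_isFinite.{u}
  refine MorphismProperty.of_isPullback_of_descendsAlong
    (Q := (@Surjective ⊓ @Flat ⊓ @QuasiCompact : MorphismProperty Scheme.{u}))
    (IsPullback.of_hasPullback (q G u ∣_ B') c).flip ⟨⟨inferInstance, inferInstance⟩, inferInstance⟩ ?_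
  have sq2 : IsPullback (pullback.fst (q G u ∣_ B') c ≫ (q G u ⁻¹ᵁ B').ι) (pullback.snd (q G u ∣_ B') c)
      (q G u) (c ≫ B'.ι) :=
    (IsPullback.of_hasPullback _ _).paste_horiz (isPullback_morphismRestrict (q G u) B').flip
  rw [show c ≫ B'.ι = RB.ι ≫ G.t from Scheme.Hom.resLE_comp_ι _ _] at sq2
  rw [← sq2.isoPullback_hom_snd]
  infer_instance

end Groth.Agent.GrpdDense19
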