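import Groth.Agent.Lib.GrpdDense19.QuasiSec

/-!
# Saturated neighbourhoods of the generic points with finite flat quasi-sections
-/

set_option autoImplicit false
set_option linter.style.haveILetI false
set_option linter.unusedSectionVars false
set_option backward.isDefEq.respectTransparency.types false
universe u

open CategoryTheory CategoryTheory.Limits AlgebraicGeometry TopologicalSpace

noncomputable section

namespace Groth.Agent.GrpdDense19

open Groth.Agent.GrpdB Groth.Agent.GrpdQSec19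

variable {S : Scheme.{u}} [AlgebraicGeometry.IsNoetherian S] (G : Grpd.GroupoidScheme S)
  [Flat G.s] [LocallyOfFiniteType G.s] [QuasiCompact G.s] [LocallyOfFiniteType G.pU] [QuasiCompact G.pU]
  [LocallyQuasiFinite G.j]

theorem exists_quasiSection_generic (ξ : G.U) (hξ : ξ ∈ genericPoints (G.U : Type u)) :
    ∃ (W : G.U.Opens) (hW : G.t ⁻¹ᵁ W = G.s ⁻¹ᵁ W), ξ ∈ W ∧
      ∃ (U' : Scheme.{u}) (u : U' ⟶ (W : Scheme.{u})), IsImmersion u ∧
        Mor2.IsFinLocFree (pullback.fst (G.t.resLE W (G.s ⁻¹ᵁ W) hW.ge) u ≫ (G.s ∣_ W)) ∧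
        Surjective (pullback.fst (G.t.resLE W (G.s ⁻¹ᵁ W) hW.ge) u ≫ (G.s ∣_ W)) ∧
        ∀ E : Set U', (∀ x ∈ E, ∀ y ∈ E, ∃ r : G.R,
            G.t r = (u ≫ W.ι) x ∧ G.s r = (u ≫ W.ι) y) →
          ∃ V : U'.Opens, IsAffineOpen V ∧ E ⊆ (V : Set U') := by
  haveI := isNoetherian_U G
  haveI := isNoetherian_R G
  haveI := GrpQuot.flat_t G
  haveI : LocallyOfFiniteType G.t := by
    rw [← G.i_s]
    haveI : IsIso G.i := GrpQuot.isIso_i G
    infer_instance
  haveI : LocallyOfFinitePresentation G.t := inferInstance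
  obtain ⟨R₀, F, g, ι, hg, hι, hF, hflat, hqf, hξM⟩ := exists_good_sub G ξ hξ
  haveI := hg; haveI := hι; haveI := hF
  haveI : LocallyOfFiniteType (pullback.fst G.t g) := MorphismProperty.pullback_fst _ _ inferInstance
  haveI : LocallyOfFiniteType (pullback.snd G.t g) := MorphismProperty.pullback_snd _ _ inferInstance
  haveI : QuasiCompact (pullback.snd G.t g) :=
    MorphismProperty.pullback_snd _ _ (quasiCompact_of_noetherian G.t)
  haveI : AlgebraicGeometry.IsNoetherian (V G g) :=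
    { toCompactSpace := QuasiCompact.compactSpace_of_compactSpace (pullback.snd G.t g)
      toIsLocallyNoetherian := LocallyOfFiniteType.isLocallyNoetherian (pullback.snd G.t g) }
  haveI : LocallyOfFiniteType (q G g) := inferInstance
  haveI : QuasiCompact (q G g) := quasiCompact_of_noetherian _
  haveI := hflat; haveI := hqf
  haveI : LocallyOfFinitePresentation (q G g) := inferInstance
  haveI : UniversallyOpen (q G g) := inferInstance
  have hfib : ∀ y, (q G g ⁻¹' {y}).Finite := fun y =>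
    GrpdQSecEx19.finite_of_quasiFiniteAt _ y fun x _ => (q G g).quasiFiniteAt x
  -- finiteness near `ξ`
  obtain ⟨B₀, -, hξB₀, hB₀⟩ := FiniteNhd12.exists_affine_isFinite_of_generic (q G g)
    NoetherianSpace.finite_irreducibleComponents (v := ξ) (fun v' hv' => eq_of_specializes_generic hξ hv')
    (fun x hx => mem_genericPoints_of_forall fun x' hx' => by
      have h1 : q G g x' = ξ := eq_of_specializes_generic hξ (by
        have := hx'.map (q G g).continuous
        rwa [show q G g x = ξ from hx] at this)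
      haveI : Finite ((q G g).fiber ξ) := ((q G g).fiberHomeo ξ).finite_iff.mpr (hfib ξ)
      haveI : T1Space ↥((q G g).fiber ξ) := by
        haveI : DiscreteTopology ↥((q G g).fiber ξ) := inferInstance
        infer_instance
      obtain ⟨a, rfl⟩ : x ∈ Set.range ((q G g).fiberι ξ) := by rw [(q G g).range_fiberι]; exact hx
      obtain ⟨a', rfl⟩ : x' ∈ Set.range ((q G g).fiberι ξ) := by rw [(q G g).range_fiberι]; exact h1
      exact congrArg _ (((q G g).fiberι ξ).isEmbedding.isInducing.specializes_iff.1 hx').eq)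
  -- the saturated open
  let M : G.U.Opens := ⟨Set.range (q G g), (q G g).isOpenMap.isOpen_range⟩
  let W₀ : G.U.Opens := ⨆ B : {B : G.U.Opens // IsFinite (q G g ∣_ B)}, B.1
  haveI hW₀ : IsFinite (q G g ∣_ W₀) := by
    let f := q G g ∣_ W₀
    refine (IsZariskiLocalAtTarget.iff_of_iSup_eq_top (P := @IsFinite)
      (fun B : {B : G.U.Opens // IsFinite (q G g ∣_ B)} => W₀.ι ⁻¹ᵁ B.1) ?_).2 fun B => ?_
    · rw [← Scheme.Hom.preimage_iSup]
      exact W₀.ι_preimage_self
    · haveI := B.2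
      refine (MorphismProperty.arrow_mk_iso_iff @IsFinite (morphismRestrictRestrict (q G g) W₀ _)).2 ?_
      rwa [W₀.ι.image_preimage_eq_opensRange_inf, W₀.opensRange_ι, inf_eq_right.2 (le_iSup (fun B : {B : G.U.Opens // IsFinite (q G g ∣_ B)} => B.1) B)]
  have hmemW₀ : ∀ y, y ∈ W₀ ↔ ∃ B : G.U.Opens, y ∈ B ∧ IsFinite (q G g ∣_ B) := fun y => by
    simp only [W₀, Opens.mem_iSup, Subtype.exists]
    exact ⟨fun ⟨B, h1, h2⟩ => ⟨B, h2, h1⟩, fun ⟨B, h1, h2⟩ => ⟨B, h2, h1⟩⟩
  have hinv₀ : ∀ r : G.R, G.s r ∈ W₀ → G.t r ∈ W₀ := fun r hr =>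
    (hmemW₀ _).2 <| by
      haveI := hW₀
      exact exists_finite_nhd_translate G g W₀ r hr
  let W := W₀ ⊓ M
  have hW : G.t ⁻¹ᵁ W = G.s ⁻¹ᵁ W := by
    ext r
    show G.t r ∈ W₀ ∧ G.t r ∈ Set.range (q G g) ↔ G.s r ∈ W₀ ∧ G.s r ∈ Set.range (q G g)
    refine and_congr ⟨fun h => ?_, hinv₀ r⟩ (range_q_invariant G g r)
    have := hinv₀ (G.i r) (by rw [s_i]; exact h)
    rwa [t_i] at this
  have hξW : ξ ∈ W := ⟨(hmemW₀ ξ).2 ⟨B₀, hξB₀, hB₀⟩, hξM⟩
  obtain ⟨kk, sq⟩ := exists_isPullback_restrict G g W hW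
  let u := g ∣_ W
  let m := pullback.fst (G.t.resLE W (G.s ⁻¹ᵁ W) hW.ge) u ≫ (G.s ∣_ W)
  have hWfin : IsFinite (q G g ∣_ W) := by
    have h1 : IsFinite ((q G g ∣_ W₀) ∣_ (W₀.ι ⁻¹ᵁ W)) := IsZariskiLocalAtTarget.restrict hW₀ _
    have := (MorphismProperty.arrow_mk_iso_iff @IsFinite (morphismRestrictRestrict (q G g) W₀ _)).1 h1
    rwa [W₀.ι.image_preimage_eq_opensRange_inf, W₀.opensRange_ι, inf_eq_right.2 inf_le_left] at this
  have hsurjW : Surjective (q G g ∣_ W) := ⟨fun ⟨y, hy⟩ => by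
    obtain ⟨x, rfl⟩ := hy.2
    exact ⟨⟨x, hy⟩, Subtype.ext (morphismRestrict_base_coe _ _ _)⟩⟩
  have sqr : IsPullback (q G g ⁻¹ᵁ W).ι (q G g ∣_ W) (q G g) W.ι := (isPullback_morphismRestrict _ W).flip
  have tr : ∀ (P : MorphismProperty Scheme.{u}) [P.RespectsIso], P (q G g ∣_ W) → P m := fun P _ h => by
    rw [show m = (sq.isoIsPullback _ _ sqr).hom ≫ (q G g ∣_ W) from (sq.isoIsPullback_hom_snd _ _ sqr).symm]
    exact (P.cancel_left_of_respectsIso _ _).2 h
  haveI hu : IsImmersion u := IsZariskiLocalAtTarget.restrict (P := @IsImmersion) hg W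
  refine ⟨W, hW, hξW, _, u, hu,
    ⟨tr @IsFinite hWfin, tr @Flat (IsZariskiLocalAtTarget.restrict hflat W),
      tr @LocallyOfFinitePresentation (IsZariskiLocalAtTarget.restrict (inferInstanceAs (LocallyOfFinitePresentation (q G g))) W)⟩,
    tr @Surjective hsurjW, fun E hE => ?_⟩
  have hu' : ∀ x, (u ≫ W.ι) x = g x.1 := fun x => by
    rw [morphismRestrict_ι, Scheme.Hom.comp_apply]
    rfl
  have hEfin : E.Finite := by
    rcases E.eq_empty_or_nonempty with rfl | ⟨x₀, hx₀⟩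
    · exact Set.finite_empty
    refine Set.Finite.of_finite_image
      (((hfib (g x₀.1)).image (pullback.snd G.t g)).subset ?_) Subtype.val_injective.injOn
    rintro _ ⟨y, hy, rfl⟩
    obtain ⟨r, hrt, hrs⟩ := hE y hy x₀ hx₀
    obtain ⟨p, hp1, hp2⟩ := Scheme.Pullback.exists_preimage_pullback (f := G.t) (g := g) r y.1 (hrt.trans (hu' y))
    refine ⟨p, ?_, hp2⟩
    show q G g p = g x₀.1
    rw [Scheme.Hom.comp_apply, hp1, hrs, hu']
  let ι' : ((g ⁻¹ᵁ W : F.Opens) : Scheme.{u}) ⟶ Proj (CohB1.polyGrading 0 R₀) := (g ⁻¹ᵁ W).ι ≫ ι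
  haveI : IsImmersion ι' := MorphismProperty.comp_mem _ _ _ inferInstance hι
  exact FinProj19.exists_affineOpen_of_finite_proj (CohB1.polyGrading 0 R₀) ι' E hEfin

end Groth.Agent.GrpdDense19
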