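import Groth.Agent.Lib.GrpdDense19.Pieces
import Groth.Agent.Lib.GrpdQSecEx19.Exists
import Groth.Prelude.Def_Mor2

/-!
# Quasi-sections near the generic points
-/

set_option autoImplicit false
set_option linter.style.haveILetI false
set_option backward.isDefEq.respectTransparency.types false
universe u

open CategoryTheory CategoryTheory.Limits AlgebraicGeometry TopologicalSpace

noncomputable section

namespace Groth.Agent.GrpdDense19

open Groth.Agent.GrpdB Groth.Agent.GrpdQSec19 Groth.Agent.GrpdSlice19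

/-- Restricting `q` to an invariant open. -/
theorem exists_isPullback_restrict {S : Scheme.{u}} (G : Grpd.GroupoidScheme S) {F : Scheme.{u}} (g : F ⟶ G.U)
    (W : G.U.Opens) (hW : G.t ⁻¹ᵁ W = G.s ⁻¹ᵁ W) :
    ∃ kk : pullback (G.t.resLE W (G.s ⁻¹ᵁ W) hW.ge) (g ∣_ W) ⟶ V G g,
      IsPullback kk (pullback.fst (G.t.resLE W (G.s ⁻¹ᵁ W) hW.ge) (g ∣_ W) ≫ (G.s ∣_ W)) (q G g) W.ι := by
  let u' := g ∣_ W
  let tW := G.t.resLE W (G.s ⁻¹ᵁ W) hW.ge
  let m : pullback tW u' ⟶ W := pullback.fst tW u' ≫ (G.s ∣_ W)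
  have sq1 : IsPullback (G.s ∣_ W) (G.s ⁻¹ᵁ W).ι W.ι G.s := isPullback_morphismRestrict G.s W
  have sq2 : IsPullback u' (g ⁻¹ᵁ W).ι W.ι g := isPullback_morphismRestrict g W
  let kk : pullback tW u' ⟶ V G g := pullback.lift (pullback.fst tW u' ≫ (G.s ⁻¹ᵁ W).ι)
    (pullback.snd tW u' ≫ (g ⁻¹ᵁ W).ι) (by
      rw [Category.assoc, Category.assoc, ← sq2.w, ← pullback.condition_assoc]
      simp only [tW, Scheme.Hom.resLE_comp_ι])
  have hkk1 : kk ≫ pullback.fst G.t g = pullback.fst tW u' ≫ (G.s ⁻¹ᵁ W).ι := pullback.lift_fst _ _ _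
  have hkk2 : kk ≫ pullback.snd G.t g = pullback.snd tW u' ≫ (g ⁻¹ᵁ W).ι := pullback.lift_snd _ _ _
  refine ⟨kk, show IsPullback kk m (q G g) W.ι from ?_⟩
  refine ⟨⟨by rw [reassoc_of% hkk1]; simp only [m, Category.assoc, morphismRestrict_ι]⟩,
    ⟨PullbackCone.IsLimit.mk _ (fun c =>
      let l₁ := sq1.lift c.snd (c.fst ≫ pullback.fst G.t g) (c.condition.symm.trans (Category.assoc _ _ _).symm)
      pullback.lift l₁ (sq2.lift (l₁ ≫ tW) (c.fst ≫ pullback.snd G.t g) (by
        simp only [l₁, tW, Category.assoc, Scheme.Hom.resLE_comp_ι, IsPullback.lift_snd_assoc]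
        exact congrArg (c.fst ≫ ·) pullback.condition)) (IsPullback.lift_fst _ _ _ _).symm)
      (fun c => ?_) (fun c => ?_) fun c m' h1 h2 => ?_⟩⟩
  · refine pullback.hom_ext ?_ ?_
    · rw [Category.assoc, hkk1, pullback.lift_fst_assoc, IsPullback.lift_snd]
    · rw [Category.assoc, hkk2, pullback.lift_snd_assoc, IsPullback.lift_snd]
  · simp only [m, pullback.lift_fst_assoc, IsPullback.lift_fst]
  · have e1 : m' ≫ pullback.fst tW u' = sq1.lift c.snd (c.fst ≫ pullback.fst G.t g)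
        (c.condition.symm.trans (Category.assoc _ _ _).symm) := by
      refine sq1.hom_ext ?_ ?_
      · rw [IsPullback.lift_fst, Category.assoc]
        exact h2
      · rw [IsPullback.lift_snd, ← h1, Category.assoc, Category.assoc, hkk1]
    refine pullback.hom_ext ?_ (sq2.hom_ext ?_ ?_)
    · rw [pullback.lift_fst, e1]
    · rw [pullback.lift_snd, IsPullback.lift_fst, Category.assoc, ← pullback.condition, ← Category.assoc, e1]
    · rw [pullback.lift_snd, IsPullback.lift_snd, ← h1, Category.assoc, Category.assoc, hkk2]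

variable {S : Scheme.{u}} [AlgebraicGeometry.IsNoetherian S] (G : Grpd.GroupoidScheme S)
  [Flat G.s] [LocallyOfFiniteType G.s] [QuasiCompact G.s] [LocallyOfFiniteType G.pU] [QuasiCompact G.pU]

theorem isNoetherian_U : AlgebraicGeometry.IsNoetherian G.U :=
  { toCompactSpace := QuasiCompact.compactSpace_of_compactSpace G.pU
    toIsLocallyNoetherian := LocallyOfFiniteType.isLocallyNoetherian G.pU }

theorem isNoetherian_R : AlgebraicGeometry.IsNoetherian G.R :=
  haveI := isNoetherian_U G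
  { toCompactSpace := QuasiCompact.compactSpace_of_compactSpace G.s
    toIsLocallyNoetherian := LocallyOfFiniteType.isLocallyNoetherian G.s }

variable [LocallyQuasiFinite G.j]

/-- A flat quasi-finite translate of a subscheme of an affine open reaches every generic point. -/
theorem exists_good_sub (ξ : G.U) (hξ : ξ ∈ genericPoints (G.U : Type u)) :
    ∃ (R₀ : CommRingCat.{u}) (F : Scheme.{u}) (g : F ⟶ G.U) (ι : F ⟶ CohB1.ProjSpace 0 R₀),
      IsImmersion g ∧ IsImmersion ι ∧ AlgebraicGeometry.IsNoetherian F ∧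
      Flat (q G g) ∧ LocallyQuasiFinite (q G g) ∧ ξ ∈ Set.range (q G g) := by
  haveI := isNoetherian_U G
  haveI := isNoetherian_R G
  haveI := GrpQuot.flat_t G
  haveI : LocallyOfFiniteType G.t := by
    rw [← G.i_s]
    haveI : IsIso G.i := GrpQuot.isIso_i G
    infer_instance
  haveI : LocallyOfFinitePresentation G.s := inferInstance
  haveI : LocallyOfFinitePresentation G.t := inferInstance
  obtain ⟨T, hT, hξT, -⟩ := exists_isAffineOpen_mem_and_subset (X := S) (x := G.pU ξ) (U := ⊤) trivial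
  haveI : IsAffine (T : Scheme.{u}) := hT
  haveI : AlgebraicGeometry.IsNoetherian (T : Scheme.{u}) :=
    { toCompactSpace := inferInstance, toIsLocallyNoetherian := inferInstance }
  let UT := G.pU ⁻¹ᵁ T
  obtain ⟨O₀, hξO, hgen⟩ := exists_open_generic hξ
  obtain ⟨Ω, hΩ, hξΩ, hΩle⟩ :=
    exists_isAffineOpen_mem_and_subset (X := G.U) (x := ξ) (U := UT ⊓ O₀) ⟨hξT, hξO⟩
  haveI : IsAffine (Ω : Scheme.{u}) := hΩ
  -- a point of `Ω` closed in its fibre
  let s₀ := G.pU ξ
  haveI : LocallyOfFiniteType (G.pU.fiberToSpecResidueField s₀) :=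
    MorphismProperty.pullback_snd _ _ inferInstance
  haveI : JacobsonSpace ↥(G.pU.fiber s₀) := LocallyOfFiniteType.jacobsonSpace (G.pU.fiberToSpecResidueField s₀)
  obtain ⟨c, hcΩ, hcc⟩ := nonempty_inter_closedPoints
    (Z := (G.pU.fiberι s₀) ⁻¹' (Ω : Set G.U))
    ⟨G.pU.asFiber ξ, by rw [Set.mem_preimage, G.pU.fiberι_asFiber]; exact hξΩ⟩
    ((Ω.2.preimage (G.pU.fiberι s₀).continuous).isLocallyClosed)
  let z : G.U := G.pU.fiberι s₀ c
  have hzΩ : z ∈ Ω := hcΩ
  have hfz : G.pU z = s₀ := by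
    have : G.pU.fiberι s₀ c ∈ Set.range (G.pU.fiberι s₀) := ⟨c, rfl⟩
    rwa [G.pU.range_fiberι] at this
  have hzc : ∀ z' : G.U, z' ∈ closure ({z} : Set G.U) → G.pU z' = G.pU z → z' = z := by
    intro z' hz' he
    obtain ⟨a, rfl⟩ : z' ∈ Set.range (G.pU.fiberι s₀) := by rw [G.pU.range_fiberι]; exact he.trans hfz
    have h1 : a ∈ closure ({c} : Set (G.pU.fiber s₀)) := specializes_iff_mem_closure.1
      ((G.pU.fiberι s₀).isEmbedding.isInducing.specializes_iff.1 (specializes_iff_mem_closure.2 hz'))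
    rw [(mem_closedPoints_iff.1 hcc).closure_eq] at h1
    exact congrArg _ h1
  have hξz : ξ ⤳ z := hgen z (hΩle hzΩ).2
  -- the data for cutting
  let RΩ := G.t ⁻¹ᵁ Ω
  have hRΩ : RΩ ≤ G.s ⁻¹ᵁ UT := fun r hr => by
    show G.pU (G.s r) ∈ T
    rw [← Scheme.Hom.comp_apply, G.s_over, ← G.t_over, Scheme.Hom.comp_apply]
    exact (hΩle hr).1
  let pX : (Ω : Scheme.{u}) ⟶ T := G.pU.resLE T Ω (fun x hx => (hΩle hx).1)
  let pZ : (UT : Scheme.{u}) ⟶ T := G.pU ∣_ T
  let u₀ : (RΩ : Scheme.{u}) ⟶ Ω := G.t ∣_ Ω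
  let v : (RΩ : Scheme.{u}) ⟶ UT := G.s.resLE UT RΩ hRΩ
  have hu₀ : u₀ ≫ pX = v ≫ pZ := by
    rw [← cancel_mono T.ι]
    calc (u₀ ≫ pX) ≫ T.ι = (u₀ ≫ Ω.ι) ≫ G.pU := by
          rw [Category.assoc, Scheme.Hom.resLE_comp_ι, Category.assoc]
      _ = RΩ.ι ≫ G.pR := by rw [morphismRestrict_ι, Category.assoc, G.t_over]
      _ = (v ≫ UT.ι) ≫ G.pU := by rw [Scheme.Hom.resLE_comp_ι, Category.assoc, G.s_over]
      _ = (v ≫ pZ) ≫ T.ι := by rw [Category.assoc, Category.assoc, morphismRestrict_ι]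
  haveI : LocallyOfFiniteType pZ := IsZariskiLocalAtTarget.restrict (P := @LocallyOfFiniteType) ‹_› T
  haveI : QuasiCompact pZ := IsZariskiLocalAtTarget.restrict (P := @QuasiCompact) ‹_› T
  haveI : LocallyOfFiniteType pX := inferInstance
  haveI : LocallyOfFiniteType v := inferInstance
  haveI : Flat v := inferInstance
  haveI hNΩ : AlgebraicGeometry.IsNoetherian (Ω : Scheme.{u}) :=
    { toCompactSpace := inferInstance, toIsLocallyNoetherian := inferInstance }
  haveI : AlgebraicGeometry.IsNoetherian (RΩ : Scheme.{u}) :=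
    { toCompactSpace := isCompact_iff_compactSpace.1 (TopologicalSpace.NoetherianSpace.isCompact (RΩ : Set G.R))
      toIsLocallyNoetherian := inferInstance }
  haveI : QuasiCompact v := quasiCompact_of_noetherian v
  haveI : QuasiCompact pX := quasiCompact_of_noetherian pX
  obtain ⟨R₀, j, hj⟩ := exists_immersion_of_isAffine (Ω : Scheme.{u})
  haveI := hj
  let z₀ : (UT : Scheme.{u}) := ⟨z, (hΩle hzΩ).1⟩
  have hv₀ : ∀ e : (RΩ : Scheme.{u}), (v e).1 = G.s e.1 := fun e => by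
    show UT.ι (v e) = G.s (RΩ.ι e)
    rw [← Scheme.Hom.comp_apply, Scheme.Hom.resLE_comp_ι, Scheme.Hom.comp_apply]
  have hu₁ : ∀ e : (RΩ : Scheme.{u}), (u₀ e).1 = G.t e.1 := fun e => morphismRestrict_base_coe _ _ _
  have hzc₀ : ∀ z' : (UT : Scheme.{u}), z' ∈ closure ({z₀} : Set (UT : Scheme.{u})) → pZ z' = pZ z₀ → z' = z₀ := by
    intro z' hz' he
    refine Subtype.ext (hzc _ ?_ ?_)
    · exact specializes_iff_mem_closure.1 ((specializes_iff_mem_closure.2 hz').map UT.ι.continuous)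
    · have := congrArg Subtype.val he
      rwa [morphismRestrict_base_coe, morphismRestrict_base_coe] at this
  obtain ⟨F, i, hi, hfin, hne, hfl⟩ := GrpdCut19.exists_cut_finite u₀ v z₀ pX (v ≫ pZ) pZ hu₀ rfl j hzc₀
    ⟨closure (GrpdCut19.trace u₀ v z₀ (𝟙 _)), isClosed_closure⟩ _ (𝟙 _) inferInstance rfl
    (by
      have he : G.e z ∈ RΩ := by show G.t (G.e z) ∈ Ω; rw [t_e]; exact hzΩ
      exact ⟨u₀ ⟨G.e z, he⟩, ⟨G.e z, he⟩, ⟨⟨u₀ _, rfl⟩, Subtype.ext ((hv₀ _).trans (s_e z))⟩, rfl⟩)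
    (fun y' _ => Flat.stalkMap _ _)
  haveI := hi
  let g : F ⟶ G.U := i ≫ Ω.ι
  haveI hNF : AlgebraicGeometry.IsNoetherian F :=
    { toCompactSpace := QuasiCompact.compactSpace_of_compactSpace i
      toIsLocallyNoetherian := LocallyOfFiniteType.isLocallyNoetherian i }
  haveI : LocallyOfFinitePresentation g := inferInstance
  obtain ⟨V₀, hV₀⟩ := exists_good_open G g
  -- the arrows with target in `F`, in two ways
  have sqF : IsPullback (pullback.fst i u₀) (pullback.snd i u₀ ≫ RΩ.ι) g G.t :=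
    (IsPullback.of_hasPullback i u₀).paste_vert (isPullback_morphismRestrict G.t Ω)
  let ε := sqF.isoPullback
  have hε : ε.hom ≫ hmap G g = (pullback.snd i u₀ ≫ v) ≫ UT.ι := by
    rw [← Category.assoc, sqF.isoPullback_hom_snd, Category.assoc, Category.assoc, Scheme.Hom.resLE_comp_ι]
  haveI : LocallyOfFiniteType (hmap G g) := by
    haveI : LocallyOfFiniteType (pullback.snd g G.t) := MorphismProperty.pullback_snd _ _ inferInstance
    infer_instance
  have hfinz : (hmap G g ⁻¹' {z}).Finite := by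
    have h1 := GrpdQSecEx19.finite_arrows G z hzc (Ω.ι '' GrpdCut19.trace u₀ v z₀ i) (hfin.image _)
    refine (h1.preimage (pullback.snd g G.t).isEmbedding.injective.injOn).subset fun P hP => ?_
    obtain ⟨P', rfl⟩ := (Scheme.Hom.surjective ε.hom) P
    have hP' : ((pullback.snd i u₀ ≫ v) ≫ UT.ι) P' = z := by
      rw [← hε, Scheme.Hom.comp_apply]; exact hP
    have hsn : pullback.snd g G.t (ε.hom P') = RΩ.ι (pullback.snd i u₀ P') := by
      rw [← Scheme.Hom.comp_apply, sqF.isoPullback_hom_snd, Scheme.Hom.comp_apply]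
    rw [Set.mem_preimage]
    rw [hsn]
    refine ⟨(hv₀ _).symm.trans hP', u₀ (pullback.snd i u₀ P'), ⟨_, ⟨⟨pullback.fst i u₀ P', ?_⟩, Subtype.ext hP'⟩, rfl⟩,
      hu₁ _⟩
    exact congr($(pullback.condition (f := i) (g := u₀)) P')
  have hgood : ∀ P', (pullback.snd i u₀ ≫ v) P' = z₀ → Slice.GoodAt (hmap G g) (ε.hom P') := by
    intro P' hP'
    have hz' : hmap G g (ε.hom P') = z := by
      rw [← Scheme.Hom.comp_apply, hε, Scheme.Hom.comp_apply, hP']
      rfl
    refine ⟨?_, GrpdQSecEx19.quasiFiniteAt_of_finite _ (by rw [hz']; exact hfinz)⟩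
    have h3 : ((pullback.snd i u₀ ≫ v) ≫ UT.ι).stalkMap P' |>.hom.Flat :=
      (FlatH4.flat_stalkMap_comp_right_iff _ UT.ι P').2 (hfl P' hP')
    rw [← hε] at h3
    exact (FlatH4.flat_stalkMap_comp_left_iff ε.hom (hmap G g) P').1 h3
  obtain ⟨_, y, ⟨⟨a, ha⟩, hy⟩, -⟩ := hne
  obtain ⟨P', hP₁, hP₂⟩ := Scheme.Pullback.exists_preimage_pullback (f := i) (g := u₀) a y ha
  have hP' : (pullback.snd i u₀ ≫ v) P' = z₀ := by rw [Scheme.Hom.comp_apply, hP₂]; exact hy
  have haV : a ∈ V₀ := by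
    have := (hV₀ _).2 (hgood P' hP')
    rwa [← Scheme.Hom.comp_apply, sqF.isoPullback_hom_fst, hP₁] at this
  -- restrict to the good part
  let g₁ : (V₀ : Scheme.{u}) ⟶ G.U := V₀.ι ≫ g
  let k : pullback g₁ G.t ⟶ pullback g G.t :=
    pullback.map g₁ G.t g G.t V₀.ι (𝟙 _) (𝟙 _) (Category.comp_id _) (by rw [Category.id_comp, Category.comp_id])
  have hk : k ≫ pullback.snd g G.t = pullback.snd g₁ G.t := (pullback.lift_snd _ _ _).trans (Category.comp_id _)
  have sqk : IsPullback k (pullback.fst g₁ G.t) (pullback.fst g G.t) V₀.ι := by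
    refine IsPullback.of_right ?_ (pullback.lift_fst _ _ _) (IsPullback.of_hasPullback g G.t).flip
    rw [hk]
    exact (IsPullback.of_hasPullback g₁ G.t).flip
  haveI : IsOpenImmersion k := MorphismProperty.of_isPullback sqk.flip inferInstance
  have hkh : hmap G g₁ = k ≫ hmap G g := by rw [← Category.assoc, hk]
  haveI : LocallyOfFiniteType (hmap G g₁) := by rw [hkh]; infer_instance
  have hg₁ : goodMor (hmap G g₁) := by
    refine goodMor_of_forall _ fun p => ?_
    rw [hkh, Slice.goodAt_comp_left_iff, ← hV₀]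
    have := congrArg (fun m => (m : pullback g₁ G.t ⟶ F) p) sqk.w
    simp only [Scheme.Hom.comp_apply] at this
    rw [this]
    exact (pullback.fst g₁ G.t p).2
  haveI : Flat (hmap G g₁) := hg₁.2.1
  haveI : LocallyQuasiFinite (hmap G g₁) := hg₁.2.2
  have hq : q G g₁ = (pullbackSymmetry G.t g₁).hom ≫ hmap G g₁ := by
    rw [← Category.assoc, pullbackSymmetry_hom_comp_snd]
  haveI : Flat (q G g₁) := by rw [hq]; infer_instance
  haveI : LocallyQuasiFinite (q G g₁) := by rw [hq]; infer_instance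
  haveI : AlgebraicGeometry.IsNoetherian (V₀ : Scheme.{u}) :=
    { toCompactSpace := isCompact_iff_compactSpace.1 (TopologicalSpace.NoetherianSpace.isCompact (V₀ : Set F))
      toIsLocallyNoetherian := inferInstance }
  refine ⟨R₀, V₀, g₁, V₀.ι ≫ i ≫ j, inferInstance, inferInstance, inferInstance, inferInstance, inferInstance, ?_⟩
  haveI : LocallyOfFiniteType (q G g₁) := by rw [hq]; infer_instance
  haveI : UniversallyOpen (q G g₁) := inferInstance
  obtain ⟨P, hP, -⟩ := Scheme.Pullback.exists_preimage_pullback (f := G.t) (g := g₁) y.1 ⟨a, haV⟩ (by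
    rw [← hu₁, ← ha]
    rfl)
  exact hξz.mem_open (q G g₁).isOpenMap.isOpen_range
    ⟨P, by rw [Scheme.Hom.comp_apply, hP, ← hv₀]; exact congrArg Subtype.val hy⟩

end Groth.Agent.GrpdDense19
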